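import Mathlib
import Cfsg.Agent.H10.BaseThree.Main

/-!
# Solvable groups of order prime to three on at most eight vectors of characteristic two
-/

namespace Cfsg.Agent.H42.Base2.Lin

open Cfsg.Agent.H10.BaseThree

variable {L : Type*} [Group L] [Finite L] {W : Type*} [AddCommGroup W] [Finite W]
  [DistribMulAction L W]

variable (W) in
/-- The vectors fixed by every member of a subgroup. -/
def fixedVectors (H : Subgroup L) : AddSubgroup W where
  carrier := MulAction.fixedPoints H W
  zero_mem' := fun k => smul_zero k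
  add_mem' := fun {a b} ha hb k => by rw [smul_add, ha k, hb k]
  neg_mem' := fun {a} ha k => by rw [smul_neg, ha k]

theorem mem_fixedVectors {H : Subgroup L} {w : W} :
    w ∈ fixedVectors W H ↔ ∀ h ∈ H, h • w = w :=
  ⟨fun hw h hh => hw ⟨h, hh⟩, fun hw h => hw h h.2⟩

/-- An element of prime order at least five fixes no nonzero vector and has order seven. -/
theorem prime_elt (hfaith : ∀ g : L, (∀ w : W, g • w = w) → g = 1) (h8 : Nat.card W ∣ 8) {z : L}
    {r : ℕ} (hr : r.Prime) (hz : orderOf z = r) (hr2 : r ≠ 2) (hr3 : r ≠ 3) :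
    Nat.card W = 8 ∧ r = 7 ∧ ∀ v : W, z • v = v → v = 0 := by
  haveI := Fact.mk hr
  have hP : IsPGroup r (Subgroup.zpowers z) :=
    IsPGroup.of_card (n := 1) (by rw [Nat.card_zpowers, hz, pow_one])
  have hmod : Nat.card W ≡ Nat.card (fixedVectors W (Subgroup.zpowers z)) [MOD r] :=
    hP.card_modEq_card_fixedPoints W
  have hFd := AddSubgroup.card_addSubgroup_dvd_card (fixedVectors W (Subgroup.zpowers z))
  have hne : Nat.card (fixedVectors W (Subgroup.zpowers z)) ≠ Nat.card W := fun h => by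
    have htop := AddSubgroup.eq_top_of_card_eq _ h
    have h1 : z = 1 := hfaith z fun w => mem_fixedVectors.1 (htop ▸ AddSubgroup.mem_top w) z
      (Subgroup.mem_zpowers z)
    rw [h1, orderOf_one] at hz
    exact hr.one_lt.ne hz
  have hr5 : 5 ≤ r := by
    have := hr.two_le
    have h4 : r ≠ 4 := fun h => by rw [h] at hr; exact absurd hr (by decide)
    omega
  have hW : Nat.card W ∈ Nat.divisors 8 := Nat.mem_divisors.2 ⟨h8, by omega⟩
  have hF : Nat.card (fixedVectors W (Subgroup.zpowers z)) ∈ Nat.divisors 8 :=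
    Nat.mem_divisors.2 ⟨hFd.trans h8, by omega⟩
  have hFle := Nat.le_of_dvd Nat.card_pos hFd
  have hdvd : r ∣ Nat.card W - Nat.card (fixedVectors W (Subgroup.zpowers z)) :=
    (Nat.modEq_iff_dvd' hFle).1 hmod.symm
  rw [show Nat.divisors 8 = {1, 2, 4, 8} by decide] at hW hF
  simp only [Finset.mem_insert, Finset.mem_singleton] at hW hF
  have hle := Nat.le_of_dvd (by omega) hdvd
  have hkey : Nat.card W = 8 ∧ r = 7 ∧ Nat.card (fixedVectors W (Subgroup.zpowers z)) = 1 := by
    rcases hW with hW | hW | hW | hW <;> rcases hF with hF | hF | hF | hF <;>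
      rw [hW, hF] at hdvd hle <;> norm_num at hdvd hle <;> try omega
    all_goals
      have h6 : r ≠ 6 := fun h => by rw [h] at hr; exact absurd hr (by decide)
      interval_cases r <;> first | omega | norm_num at hdvd
  refine ⟨hkey.1, hkey.2.1, fun v hv => ?_⟩
  have hbot := AddSubgroup.eq_bot_of_card_eq _ hkey.2.2
  have hv' : v ∈ fixedVectors W (Subgroup.zpowers z) := mem_fixedVectors.2 fun h hh => by
    obtain ⟨i, rfl⟩ := Subgroup.mem_zpowers_iff.1 hh
    exact zpow_mem (show z ∈ MulAction.stabilizer L v from hv) i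
  rw [hbot, AddSubgroup.mem_bot] at hv'
  exact hv'

/-- The powers of a fixed-point-free element of order seven move a vector to all others. -/
theorem seven_transitive (h8 : Nat.card W = 8) {z : L} (hz : orderOf z = 7)
    (hfix : ∀ v : W, z • v = v → v = 0) {v : W} (hv : v ≠ 0) :
    (∀ i j : ℕ, z ^ i • v = z ^ j • v → i % 7 = j % 7) ∧
      ∀ w : W, w ≠ 0 → ∃ i : ℕ, z ^ i • v = w := by
  have hper : ∀ d : ℕ, z ^ d • v = v → 7 ∣ d := by
    intro d hd
    have h1 : MulAction.period z v ∣ 7 := hz ▸ MulAction.period_dvd_orderOf z v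
    rcases (Nat.Prime.eq_one_or_self_of_dvd (by decide) _ h1) with h | h
    · exact absurd (hfix v (MulAction.period_eq_one_iff.1 h)) hv
    · exact h ▸ MulAction.pow_smul_eq_iff_period_dvd.1 hd
  have hinj : ∀ i j : ℕ, z ^ i • v = z ^ j • v → i % 7 = j % 7 := by
    intro i j h
    rcases le_total i j with hij | hij
    · have h1 : z ^ (j - i) • v = v := smul_left_cancel (z ^ i) (by
        rw [smul_smul, ← pow_add, Nat.add_sub_cancel' hij, h])
      exact (Nat.modEq_iff_dvd' hij).2 (hper _ h1)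
    · have h1 : z ^ (i - j) • v = v := smul_left_cancel (z ^ j) (by
        rw [smul_smul, ← pow_add, Nat.add_sub_cancel' hij, h])
      exact ((Nat.modEq_iff_dvd' hij).2 (hper _ h1)).symm
  refine ⟨hinj, fun w hw => ?_⟩
  have hI : Function.Injective fun i : Fin 7 => z ^ (i : ℕ) • v := fun i j h => by
    have := hinj i j h
    rw [Nat.mod_eq_of_lt i.2, Nat.mod_eq_of_lt j.2] at this
    exact Fin.ext this
  have hsub : Set.range (fun i : Fin 7 => z ^ (i : ℕ) • v) ⊆ ({0} : Set W)ᶜ := by
    rintro _ ⟨i, rfl⟩ h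
    exact hv ((smul_eq_zero_iff_eq _).1 h)
  have heq := Set.eq_of_subset_of_ncard_le hsub (by
    rw [Set.ncard_range_of_injective hI, Nat.card_fin, Set.ncard_compl, Set.ncard_singleton, h8])
    (Set.toFinite _)
  obtain ⟨i, hi⟩ : w ∈ Set.range (fun i : Fin 7 => z ^ (i : ℕ) • v) := heq ▸ hw
  exact ⟨i, hi⟩

/-- No solvable group of order prime to three has elements of order two and seven. -/
theorem no_seven_two [Group.IsSolvable L] (hfaith : ∀ g : L, (∀ w : W, g • w = w) → g = 1)
    (h3 : ¬ 3 ∣ Nat.card L) (h8 : Nat.card W = 8) (h2 : ∀ w : W, w + w = 0) {x z : L}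
    (hx : orderOf x = 2) (hz : orderOf z = 7) : False := by
  classical
  haveI := Fact.mk Nat.prime_two
  have hx1 : x ≠ 1 := fun h => by rw [h, orderOf_one] at hx; omega
  haveI : Nontrivial L := ⟨⟨x, 1, hx1⟩⟩
  obtain ⟨E, hEn, hE1, hEc⟩ := exists_abelian_normal (G := L)
  haveI : Nontrivial E := (Subgroup.nontrivial_iff_ne_bot E).2 hE1
  obtain ⟨r, hr, hrE⟩ := Nat.exists_prime_and_dvd (Finite.one_lt_card (α := E)).ne'
  haveI := Fact.mk hr
  obtain ⟨e, he⟩ := exists_prime_orderOf_dvd_card' r hrE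
  have he' : orderOf (e : L) = r := by rw [Subgroup.orderOf_coe, he]
  have hr3 : r ≠ 3 := fun h => h3 (h ▸ he' ▸ orderOf_dvd_natCard (e : L))
  have h80 : (2 : ℕ) ∣ Nat.card W := by rw [h8]; norm_num
  by_cases hr2 : r = 2
  · let E2 : Subgroup L :=
      { carrier := {a | a ∈ E ∧ a * a = 1}
        one_mem' := ⟨one_mem E, one_mul 1⟩
        mul_mem' := fun {a b} ha hb => ⟨mul_mem ha.1 hb.1, by
          rw [mul_assoc, ← mul_assoc b a b, hEc b hb.1 a ha.1, mul_assoc, hb.2, mul_one, ha.2]⟩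
        inv_mem' := fun {a} ha => ⟨inv_mem ha.1, by rw [← mul_inv_rev, ha.2, inv_one]⟩ }
    have hP : IsPGroup 2 E2 := fun a => ⟨1, Subtype.ext (by
      rw [pow_one, pow_two]; exact a.2.2)⟩
    obtain ⟨v, hvF, hv0⟩ := hP.exists_fixed_point_of_prime_dvd_card_of_fixed_point W h80
      (a := 0) (fun k => smul_zero k)
    have hF : ∀ (n : ℕ) (a : L), a ∈ E2 → a • z ^ n • v = z ^ n • v := by
      intro n a ha
      have hc : (z ^ n)⁻¹ * a * z ^ n ∈ E2 := by
        refine ⟨by simpa using hEn.conj_mem a ha.1 (z ^ n)⁻¹, ?_⟩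
        rw [show (z ^ n)⁻¹ * a * z ^ n * ((z ^ n)⁻¹ * a * z ^ n) = (z ^ n)⁻¹ * (a * a) * z ^ n by
          group, ha.2, mul_one, inv_mul_cancel]
      have h := congrArg (z ^ n • ·) (hvF ⟨_, hc⟩)
      simp only [Subgroup.smul_def, smul_smul] at h
      rw [smul_smul]
      simpa [mul_assoc] using h
    obtain ⟨-, htr⟩ := seven_transitive h8 hz
      (prime_elt hfaith (h8 ▸ dvd_refl _) (by decide) hz (by decide) (by decide)).2.2 hv0.symm
    have heE : (e : L) ∈ E2 := ⟨e.2, by
      rw [← pow_two, ← hr2, ← he', pow_orderOf_eq_one]⟩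
    have : (e : L) = 1 := hfaith _ fun w => by
      by_cases hw : w = 0
      · rw [hw, smul_zero]
      · obtain ⟨i, rfl⟩ := htr w hw
        exact hF i _ heE
    rw [this, orderOf_one] at he'
    exact hr.one_lt.ne he'
  obtain ⟨-, hr7, hfix⟩ := prime_elt hfaith (h8 ▸ dvd_refl _) hr he' hr2 hr3
  rw [hr7] at he'
  set u := (e : L) with hu
  have hP : IsPGroup 2 (Subgroup.zpowers x) :=
    IsPGroup.of_card (n := 1) (by rw [Nat.card_zpowers, hx, pow_one])
  obtain ⟨v, hvF, hv0⟩ := hP.exists_fixed_point_of_prime_dvd_card_of_fixed_point W h80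
    (a := 0) (fun k => smul_zero k)
  have hxv : x • v = v := hvF ⟨x, Subgroup.mem_zpowers x⟩
  obtain ⟨hinj, htr⟩ := seven_transitive h8 he' hfix hv0.symm
  set u' := x * u * x⁻¹ with hu'
  have hu'E : u' ∈ E := hEn.conj_mem _ e.2 x
  obtain ⟨i, hi⟩ := htr (u' • v) fun h => hv0 ((smul_eq_zero_iff_eq _).1 h).symm
  have hall : u' = u ^ i := by
    refine eq_of_inv_mul_eq_one ?_ |>.symm
    refine hfaith _ fun w => ?_
    by_cases hw : w = 0
    · rw [hw, smul_zero]
    obtain ⟨j, rfl⟩ := htr w hw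
    have hc : Commute u' (u ^ j) := Commute.pow_right (hEc _ hu'E _ e.2) j
    rw [mul_smul, inv_smul_eq_iff, smul_smul u', hc.eq, mul_smul, ← hi, smul_smul, smul_smul,
      ← pow_add, ← pow_add, add_comm]
  have hxj : ∀ j : ℕ, x • u ^ j • v = u ^ (i * j) • v := by
    intro j
    conv_rhs => rw [← hxv]
    rw [pow_mul, ← hall, hu', conj_pow, smul_smul, smul_smul, mul_assoc (x * u ^ j),
      inv_mul_cancel, mul_one]
  have hxx : x * x = 1 := by rw [← pow_two, ← hx, pow_orderOf_eq_one]
  have hsq : (i * (i * 1)) % 7 = 1 % 7 := hinj _ _ (by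
    rw [← hxj, ← hxj, smul_smul, hxx, one_smul])
  have hcases : i % 7 = 1 ∨ i % 7 = 6 := by
    rw [mul_one, Nat.mul_mod] at hsq
    have hk : ∀ k < 7, k * k % 7 = 1 % 7 → k = 1 ∨ k = 6 := by decide
    exact hk _ (Nat.mod_lt _ (by norm_num)) hsq
  have hmodpow : ∀ a b : ℕ, a % 7 = b % 7 → u ^ a = u ^ b := fun a b h => by
    rw [pow_eq_pow_iff_modEq, he']; exact h
  rcases hcases with h1 | h6
  · refine hx1 (hfaith x fun w => ?_)
    by_cases hw : w = 0
    · rw [hw, smul_zero]
    obtain ⟨j, rfl⟩ := htr w hw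
    rw [hxj, hmodpow (i * j) j (by rw [Nat.mul_mod, h1, one_mul, Nat.mod_mod])]
  · have hx1v : x • u ^ 1 • v = u ^ 6 • v := by
      rw [hxj, hmodpow (i * 1) 6 (by rw [mul_one, h6])]
    have hne : u ^ 1 • v + u ^ 6 • v ≠ 0 := fun h => by
      have : u ^ 1 • v = u ^ 6 • v := add_right_cancel (h.trans (h2 _).symm)
      exact absurd (hinj _ _ this) (by decide)
    obtain ⟨j, hj⟩ := htr _ hne
    have hfx : x • (u ^ 1 • v + u ^ 6 • v) = u ^ 1 • v + u ^ 6 • v := by
      rw [smul_add, hx1v, ← hx1v, smul_smul x x, hxx, one_smul, add_comm]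
    rw [← hj, hxj] at hfx
    have hj0 : j % 7 = 0 := by
      have := hinj _ _ hfx
      rw [Nat.mul_mod, h6] at this
      omega
    rw [hmodpow j 0 (by rw [hj0]), pow_zero, one_smul] at hj
    have h21 : u ^ 2 • v + v = u ^ 1 • v := by
      have := congrArg (u ^ 1 • ·) hj
      simp only [smul_add, smul_smul, ← pow_add] at this
      rw [hmodpow (1 + 6) 0 (by decide), pow_zero, one_smul] at this
      exact this.symm
    have h32 : u ^ 3 • v + u ^ 1 • v = u ^ 2 • v := by
      have := congrArg (u ^ 1 • ·) h21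
      simp only [smul_add, smul_smul, ← pow_add] at this
      exact this
    have h30 : u ^ 3 • v = u ^ 0 • v := by
      rw [pow_zero, one_smul]
      calc u ^ 3 • v = u ^ 3 • v + (u ^ 1 • v + u ^ 1 • v) := by rw [h2, add_zero]
        _ = u ^ 2 • v + (u ^ 2 • v + v) := by rw [← add_assoc, h32, h21]
        _ = v := by rw [← add_assoc, h2, zero_add]
    exact absurd (hinj _ _ h30) (by decide)

/-- Either the order is odd or some nonzero vector is fixed by everything. -/
theorem odd_or_fixed [Group.IsSolvable L] (hfaith : ∀ g : L, (∀ w : W, g • w = w) → g = 1)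
    (h3 : ¬ 3 ∣ Nat.card L) (h8 : Nat.card W ∣ 8) (h2 : ∀ w : W, w + w = 0) :
    Odd (Nat.card L) ∨ ∃ P : W, P ≠ 0 ∧ ∀ g : L, g • P = P := by
  rw [or_iff_not_imp_left, Nat.not_odd_iff_even, even_iff_two_dvd]
  intro heven
  haveI := Fact.mk Nat.prime_two
  obtain ⟨x, hx⟩ := exists_prime_orderOf_dvd_card' 2 heven
  have hP : IsPGroup 2 L := by
    refine IsPGroup.of_card (n := (Nat.card L).primeFactorsList.length)
      (Nat.eq_prime_pow_of_unique_prime_dvd Nat.card_pos.ne' fun {r} hr hrL => ?_)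
    by_contra hr2
    haveI := Fact.mk hr
    obtain ⟨z, hz⟩ := exists_prime_orderOf_dvd_card' r hrL
    obtain ⟨h8', hr7, -⟩ := prime_elt hfaith h8 hr hz hr2 fun h => h3 (h ▸ hrL)
    exact no_seven_two hfaith h3 h8' h2 hx (hr7 ▸ hz)
  have hW2 : 2 ∣ Nat.card W := by
    obtain ⟨k, -, hk⟩ := (Nat.dvd_prime_pow Nat.prime_two).1 (show Nat.card W ∣ 2 ^ 3 from h8)
    rcases k with _ | k
    · haveI : Subsingleton W := (Nat.card_eq_one_iff_unique.1 hk).1
      have : x = 1 := hfaith x fun w => Subsingleton.elim _ _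
      rw [this, orderOf_one] at hx
      omega
    · rw [hk, pow_succ]; exact dvd_mul_left 2 _
  obtain ⟨v, hv, hv0⟩ := hP.exists_fixed_point_of_prime_dvd_card_of_fixed_point W hW2
    (a := 0) (fun k => smul_zero k)
  exact ⟨v, hv0.symm, hv⟩

theorem eq_one_of_fix_gens (hfaith : ∀ g : L, (∀ w : W, g • w = w) → g = 1) {S : Set W}
    (hS : AddSubgroup.closure S = ⊤) {g : L} (hg : ∀ x ∈ S, g • x = x) : g = 1 :=
  hfaith g fun w => by
    have hle : AddSubgroup.closure S ≤
        (DistribSMul.toAddMonoidHom W g).eqLocus (AddMonoidHom.id W) :=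
      (AddSubgroup.closure_le _).2 hg
    rw [hS] at hle
    exact hle (AddSubgroup.mem_top w)

theorem exists_next (P : Set W) (hP : P.Nonempty) : ∃ Q : W, AddSubgroup.closure P = ⊤ ∧ Q ∈ P ∨
    Q ∉ AddSubgroup.closure P := by
  by_cases h : AddSubgroup.closure P = ⊤
  · exact ⟨hP.some, Or.inl ⟨h, hP.some_mem⟩⟩
  · obtain ⟨Q, -, hQ⟩ := SetLike.exists_of_lt (lt_top_iff_ne_top.2 h)
    exact ⟨Q, Or.inr hQ⟩

theorem two_mul_card_le {A B : AddSubgroup W} (h : A ≤ B) (hne : A ≠ B) :
    2 * Nat.card A ≤ Nat.card B := by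
  obtain ⟨c, hc⟩ := AddSubgroup.card_dvd_of_le h
  have hA : 0 < Nat.card A := Nat.card_pos
  rcases c with _ | _ | c
  · simp [Nat.card_pos.ne'] at hc
  · exact absurd (AddSubgroup.eq_of_le_of_card_ge h (by omega)) hne
  · rw [hc, mul_comm 2]
    exact Nat.mul_le_mul_left _ (by omega)

/-- Some set of nonzero vectors is kept only by the identity. -/
theorem exists_rigid_small [Group.IsSolvable L] (hfaith : ∀ g : L, (∀ w : W, g • w = w) → g = 1)
    (h3 : ¬ 3 ∣ Nat.card L) (h8 : Nat.card W ∣ 8) (h2 : ∀ w : W, w + w = 0) :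
    ∃ S : Set W, (0 : W) ∉ S ∧ AddSubgroup.closure S = ⊤ ∧
      ∀ g : L, (∀ x ∈ S, g • x ∈ S) → g = 1 := by
  classical
  by_cases hW : ∀ w : W, w = 0
  · exact ⟨∅, Set.notMem_empty _, (AddSubgroup.eq_top_iff' _).2 fun w => by
        rw [hW w]; exact AddSubgroup.zero_mem _,
      fun g _ => hfaith g fun w => by rw [hW w, smul_zero]⟩
  obtain ⟨P, hP0, hcase⟩ : ∃ P : W, P ≠ 0 ∧ (Odd (Nat.card L) ∨ ∀ g : L, g • P = P) := by
    rcases odd_or_fixed hfaith h3 h8 h2 with h | ⟨P, hP, h⟩
    · push Not at hW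
      obtain ⟨w, hw⟩ := hW
      exact ⟨w, hw, Or.inl h⟩
    · exact ⟨P, hP, Or.inr h⟩
  obtain ⟨Q, hQ⟩ := exists_next ({P} : Set W) ⟨P, rfl⟩
  obtain ⟨x, hx⟩ := exists_next ({P, Q} : Set W) ⟨P, Or.inl rfl⟩
  have hQ0 : Q ≠ 0 := fun h => by
    rcases hQ with ⟨-, hQ⟩ | hQ
    · exact hP0 ((Set.mem_singleton_iff.1 hQ).symm.trans h)
    · exact hQ (h ▸ AddSubgroup.zero_mem _)
  have hx0 : x ≠ 0 := fun h => by
    rcases hx with ⟨-, hx⟩ | hx
    · rcases hx with hx | hx
      · exact hP0 (hx.symm.trans h)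
      · exact hQ0 ((Set.mem_singleton_iff.1 hx).symm.trans h)
    · exact hx (h ▸ AddSubgroup.zero_mem _)
  have hgen : AddSubgroup.closure ({P, Q, x} : Set W) = ⊤ := by
    have hs1 : ({P} : Set W) ⊆ {P, Q, x} := by intro a ha; simp_all
    have hs2 : ({P, Q} : Set W) ⊆ {P, Q, x} := by
      rintro a (rfl | rfl) <;> simp
    rcases hQ with ⟨h, -⟩ | hQ
    · exact eq_top_iff.2 (h ▸ AddSubgroup.closure_mono hs1)
    rcases hx with ⟨h, -⟩ | hx
    · exact eq_top_iff.2 (h ▸ AddSubgroup.closure_mono hs2)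
    have e1 : 2 * Nat.card (⊥ : AddSubgroup W) ≤ Nat.card (AddSubgroup.closure ({P} : Set W)) :=
      two_mul_card_le bot_le fun h => hP0 (by
        have := AddSubgroup.subset_closure (Set.mem_singleton P)
        rw [← h] at this
        exact AddSubgroup.mem_bot.1 this)
    have e2 := two_mul_card_le (AddSubgroup.closure_mono (show ({P} : Set W) ⊆ {P, Q} by simp))
      fun h => hQ (h ▸ AddSubgroup.subset_closure (by simp))
    have e3 := two_mul_card_le (AddSubgroup.closure_mono hs2)
      fun h => hx (h ▸ AddSubgroup.subset_closure (by simp))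
    rw [AddSubgroup.card_bot] at e1
    have hle := Nat.le_of_dvd (by norm_num) h8
    exact AddSubgroup.eq_top_of_le_card _ (by omega)
  rcases hcase with hodd | hfix
  · refine ⟨{P, Q, x}, by simp [hP0.symm, hQ0.symm, hx0.symm], hgen, fun g hg => ?_⟩
    have h6 : ∀ a ∈ ({P, Q, x} : Set W), g ^ 6 • a = a := by
      intro a ha
      have hmem : ∀ n : ℕ, g ^ n • a ∈ ({P, Q, x} : Finset W) := by
        intro n
        induction n with
        | zero => simpa using ha
        | succ n ih =>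
          rw [pow_succ', mul_smul]
          simpa using hg _ (by simpa using ih)
      obtain ⟨i, hi', j, hj', hij, heq⟩ := Finset.exists_ne_map_eq_of_card_lt_of_maps_to
        (s := Finset.range 4) (t := ({P, Q, x} : Finset W))
        (lt_of_le_of_lt (Finset.card_le_three) (by rw [Finset.card_range]; norm_num))
        (f := fun n : ℕ => g ^ n • a) fun n _ => hmem n
      wlog hlt : i < j generalizing i j
      · exact this j hj' i hi' hij.symm heq.symm (by omega)
      have hd : g ^ (j - i) • a = a := smul_left_cancel (g ^ i) (by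
        rw [smul_smul, ← pow_add, Nat.add_sub_cancel' hlt.le, heq])
      have hdiv : j - i ∣ 6 := by
        have : j < 4 := Finset.mem_range.1 hj'
        have h1 : j - i = 1 ∨ j - i = 2 ∨ j - i = 3 := by omega
        rcases h1 with h | h | h <;> rw [h] <;> norm_num
      obtain ⟨c, hc⟩ := hdiv
      rw [hc, pow_mul]
      exact pow_mem (show g ^ (j - i) ∈ MulAction.stabilizer L a from hd) c
    have hg6 : g ^ 6 = 1 := eq_one_of_fix_gens hfaith hgen h6
    have hdiv := orderOf_dvd_of_pow_eq_one hg6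
    have hoddg : Odd (orderOf g) := hodd.of_dvd_nat (orderOf_dvd_natCard g)
    have hne3 : ¬ 3 ∣ orderOf g := fun h => h3 (h.trans (orderOf_dvd_natCard g))
    refine orderOf_eq_one_iff.1 ?_
    have hle := Nat.le_of_dvd (by norm_num) hdiv
    have hpos := orderOf_pos g
    obtain ⟨k, hk⟩ := hoddg
    interval_cases h : orderOf g <;> omega
  -- `P` is fixed
  have key : ∀ Q x : W, Q ≠ 0 → x ≠ 0 → AddSubgroup.closure ({P, Q, x} : Set W) = ⊤ →
      (∀ g : L, g • Q = x → g • x = Q → g • Q = Q) →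
      ∃ S : Set W, (0 : W) ∉ S ∧ AddSubgroup.closure S = ⊤ ∧
        ∀ g : L, (∀ a ∈ S, g • a ∈ S) → g = 1 := by
    intro Q x hQ0 hx0 hgen hsw
    refine ⟨{P, Q, x}, by simp [hP0.symm, hQ0.symm, hx0.symm], hgen, fun g hg => ?_⟩
    refine eq_one_of_fix_gens hfaith hgen fun a ha => ?_
    have hinjg : ∀ a b : W, g • a = g • b → a = b := fun a b h => smul_left_cancel g h
    have hgQ := hg Q (by simp)
    have hgx := hg x (by simp)
    simp only [Set.mem_insert_iff, Set.mem_singleton_iff] at hgQ hgx ha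
    have hQP : g • Q = P → Q = P := fun h => hinjg _ _ (h.trans (hfix g).symm)
    have hxP : g • x = P → x = P := fun h => hinjg _ _ (h.trans (hfix g).symm)
    have hQfix : g • Q = Q := by
      rcases hgQ with h | h | h
      · rw [hQP h]; exact hfix g
      · exact h
      · rcases hgx with h' | h' | h'
        · rw [hxP h'] at h; rw [hQP h]; exact hfix g
        · exact hsw g h h'
        · have := hinjg _ _ (h.trans h'.symm); rw [this]; exact h'
    rcases ha with rfl | rfl | rfl
    · exact hfix g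
    · exact hQfix
    · rcases hgx with h' | h' | h'
      · rw [hxP h']; exact hfix g
      · rw [hinjg _ _ (h'.trans hQfix.symm)]; exact hQfix
      · exact h'
  by_cases hs1 : ∀ g : L, g • Q = x → g • x = Q → g • Q = Q
  · exact key Q x hQ0 hx0 hgen hs1
  push Not at hs1
  obtain ⟨s, hsQ, hsx, hsne⟩ := hs1
  have hQx : Q + x ≠ 0 := fun h => hsne (by
    have : Q = x := add_right_cancel (h.trans (h2 x).symm)
    rw [hsQ, this])
  have hgen' : AddSubgroup.closure ({P, Q, Q + x} : Set W) = ⊤ := by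
    rw [eq_top_iff, ← hgen, AddSubgroup.closure_le]
    intro a ha
    simp only [Set.mem_insert_iff, Set.mem_singleton_iff] at ha
    rcases ha with rfl | rfl | rfl
    · exact AddSubgroup.subset_closure (by simp)
    · exact AddSubgroup.subset_closure (by simp)
    · have hQ' : Q ∈ AddSubgroup.closure ({P, Q, Q + a} : Set W) :=
        AddSubgroup.subset_closure (by simp)
      have hQa' : Q + a ∈ AddSubgroup.closure ({P, Q, Q + a} : Set W) :=
        AddSubgroup.subset_closure (by simp)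
      simpa using AddSubgroup.sub_mem _ hQa' hQ'
  refine key Q (Q + x) hQ0 hQx hgen' fun t htQ htx => ?_
  exfalso
  have htx' : t • x = x := by
    rw [smul_add, htQ, add_assoc] at htx
    have h := add_left_cancel (htx.trans (add_zero Q).symm)
    calc t • x = t • x + (x + x) := by rw [h2, add_zero]
      _ = x + (x + t • x) := by abel
      _ = x := by rw [h, add_zero]
  have e1 : (s * t) • Q = x + Q := by rw [mul_smul, htQ, smul_add, hsQ, hsx]
  have e2 : (s * t) • x = Q := by rw [mul_smul, htx', hsx]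
  have hcube : (s * t) ^ 3 = 1 := eq_one_of_fix_gens hfaith hgen fun a ha => by
    simp only [Set.mem_insert_iff, Set.mem_singleton_iff] at ha
    rw [pow_succ, pow_two, mul_smul, mul_smul]
    rcases ha with h | h | h <;> rw [h]
    · rw [hfix, hfix, hfix]
    · rw [e1, smul_add, e2, e1, ← add_assoc, add_comm Q x, add_assoc, h2, add_zero, e2]
    · rw [e2, e1, smul_add, e2, e1, add_comm x Q, ← add_assoc, h2, zero_add]
  haveI := Fact.mk Nat.prime_three
  have hst : s * t = 1 := by
    by_contra hne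
    exact h3 (orderOf_eq_prime hcube hne ▸ orderOf_dvd_natCard (s * t))
  rw [hst, one_smul] at e1
  exact hx0 (add_eq_right.1 e1.symm)

end Cfsg.Agent.H42.Base2.Lin
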