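import Mathlib
import Cfsg.Agent.H10.BaseThree.Main
import Cfsg.Agent.H42.Base2.Lin.Small

/-!
# Three colours break the symmetries of an irreducible affine group of order prime to three
-/

namespace Cfsg.Agent.H42.Base2.Lin

open Cfsg.Agent.H10.BaseThree

universe u v

section Five

variable {q : ℕ}

/-- The arithmetic behind the sets of multiples `{1}`, `{1, 2}`, `{1, 2, 3}`. -/
theorem multiples (hq : 5 ≤ q) {i j k : ℕ} (hi : i ≤ 2) (hj : j ≤ 2) (hk1 : 1 ≤ k) (hk : k ≤ j + 1)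
    (h : ∀ l, 1 ≤ l → l ≤ i + 1 → ∃ m, 1 ≤ m ∧ m ≤ j + 1 ∧ (l * k) % q = m % q) :
    i ≤ j ∧ (i = j → k = 1) := by
  by_cases hi0 : i = 0
  · exact ⟨by omega, by omega⟩
  obtain ⟨m, hm1, hm, e2⟩ := h 2 (by norm_num) (by omega)
  have key1 : ∀ q : Fin 10, ∀ j : Fin 3, ∀ k : Fin 4, ∀ m : Fin 4, 5 ≤ (q : ℕ) → 1 ≤ (k : ℕ) →
      (k : ℕ) ≤ j + 1 → 1 ≤ (m : ℕ) → (m : ℕ) ≤ j + 1 →
      2 * (k : ℕ) % q = (m : ℕ) % q → 1 ≤ (j : ℕ) ∧ ((j : ℕ) = 1 → (k : ℕ) = 1) := by decide +kernel
  have key2 : ∀ q : Fin 10, ∀ j : Fin 3, ∀ k : Fin 4, ∀ m : Fin 4, ∀ n : Fin 4, 5 ≤ (q : ℕ) →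
      1 ≤ (k : ℕ) → (k : ℕ) ≤ j + 1 → 1 ≤ (m : ℕ) → (m : ℕ) ≤ j + 1 → 1 ≤ (n : ℕ) →
      (n : ℕ) ≤ j + 1 → 2 * (k : ℕ) % q = (m : ℕ) % q → 3 * (k : ℕ) % q = (n : ℕ) % q →
      2 ≤ (j : ℕ) ∧ ((j : ℕ) = 2 → (k : ℕ) = 1) := by decide +kernel
  by_cases hi1 : i = 1
  · subst hi1
    by_cases hq10 : q < 10
    · have := key1 ⟨q, hq10⟩ ⟨j, by omega⟩ ⟨k, by omega⟩ ⟨m, by omega⟩ hq hk1 hk hm1 hm e2
      exact ⟨this.1, fun h => this.2 h.symm⟩
    · rw [Nat.mod_eq_of_lt (by omega), Nat.mod_eq_of_lt (by omega)] at e2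
      omega
  obtain ⟨n, hn1, hn, e3⟩ := h 3 (by norm_num) (by omega)
  have : i = 2 := by omega
  subst this
  by_cases hq10 : q < 10
  · have := key2 ⟨q, hq10⟩ ⟨j, by omega⟩ ⟨k, by omega⟩ ⟨m, by omega⟩ ⟨n, by omega⟩ hq hk1 hk hm1 hm hn1 hn
      e2 e3
    exact ⟨this.1, fun h => this.2 h.symm⟩
  · rw [Nat.mod_eq_of_lt (by omega), Nat.mod_eq_of_lt (by omega)] at e2 e3
    omega

end Five

variable {Γ : Type u} [Group Γ] {A : Type v} [AddCommGroup A] [DistribMulAction Γ A]

/-- The members of `Γ` keeping a subgroup. -/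
def keeps [Finite A] (U : AddSubgroup A) : Subgroup Γ where
  carrier := {g | ∀ u : A, g • u ∈ U ↔ u ∈ U}
  one_mem' := fun u => by rw [one_smul]
  mul_mem' := fun {a b} ha hb u => by rw [mul_smul, ha, hb]
  inv_mem' := fun {a} ha u => by rw [← ha, smul_inv_smul]

theorem mem_keeps [Finite A] {U : AddSubgroup A} {g : Γ} (h : ∀ u ∈ U, g • u ∈ U) :
    g ∈ keeps U := by
  intro u
  refine ⟨fun hu => ?_, h u⟩
  have hinj : Function.Injective (fun w : U => (⟨g • (w : A), h w w.2⟩ : U)) := fun a b hab =>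
    Subtype.ext (smul_left_cancel g (congrArg Subtype.val hab))
  obtain ⟨w, hw⟩ := (Finite.injective_iff_surjective.1 hinj) ⟨g • u, hu⟩
  have : (w : A) = u := smul_left_cancel g (congrArg Subtype.val hw)
  exact this ▸ w.2

/-- A set of nonzero vectors kept only by the elements acting trivially. -/
theorem exists_rigid [Finite Γ] [Group.IsSolvable Γ] [Finite A] (hirr : Irred Γ A)
    (h3 : ¬ 3 ∣ Nat.card Γ) {q : ℕ} (hqp : q.Prime) (hq : ∀ a : A, q • a = 0) (hq3 : q ≠ 3) :
    ∃ S : Set A, (0 : A) ∉ S ∧ ∀ g : Γ, (∀ x ∈ S, g • x ∈ S) → ∀ a : A, g • a = a := by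
  classical
  haveI := AddCommGroup.zmodModule (n := q) hq
  haveI := Fact.mk hqp
  obtain ⟨⟨a, b, c⟩, hreg⟩ := exists_regular_irred hirr
  let U : Submodule (ZMod q) A := Submodule.span (ZMod q) ({a, b, c} : Set A)
  have haU : a ∈ U := Submodule.subset_span (Set.mem_insert a _)
  have hbU : b ∈ U := Submodule.subset_span (Set.mem_insert_of_mem _ (Set.mem_insert b _))
  have hcU : c ∈ U := Submodule.subset_span
    (Set.mem_insert_of_mem _ (Set.mem_insert_of_mem _ (Set.mem_singleton c)))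
  have hd : Module.finrank (ZMod q) U ≤ 3 := by
    haveI : DecidableEq A := Classical.decEq A
    have hU : U = Submodule.span (ZMod q) ((({a, b, c} : Finset A) : Finset A) : Set A) := by
      simp only [U, Finset.coe_insert, Finset.coe_singleton]
    rw [hU]
    exact (finrank_span_finset_le_card _).trans Finset.card_le_three
  have hlin : ∀ (g : Γ) (k : ZMod q) (x : A), g • (k • x) = k • (g • x) := fun g k x =>
    ZMod.map_smul (DistribSMul.toAddMonoidHom A g) k x
  have hspan : ∀ (g : Γ) (S : Set A), Submodule.span (ZMod q) S = U → (∀ x ∈ S, g • x ∈ S) →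
      ∀ x ∈ U, g • x ∈ U := by
    intro g S hS hg x hx
    rw [← hS] at hx ⊢
    induction hx using Submodule.span_induction with
    | mem y hy => exact Submodule.subset_span (hg y hy)
    | zero => rw [smul_zero]; exact Submodule.zero_mem _
    | add y z _ _ hy hz => rw [smul_add]; exact Submodule.add_mem _ hy hz
    | smul k y _ hy => rw [hlin]; exact Submodule.smul_mem _ k hy
  by_cases hq2 : q = 2
  · subst hq2
    let H := keeps (Γ := Γ) U.toAddSubgroup
    letI inst : DistribMulAction H U.toAddSubgroup :=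
      { smul := fun g x => ⟨(g : Γ) • (x : A), (g.2 x).2 x.2⟩
        one_smul := fun x => Subtype.ext (one_smul Γ (x : A))
        mul_smul := fun g h x => Subtype.ext (mul_smul (g : Γ) (h : Γ) (x : A))
        smul_zero := fun g => Subtype.ext (smul_zero (g : Γ))
        smul_add := fun g x y => Subtype.ext (smul_add (g : Γ) (x : A) (y : A)) }
    let ρ := (DistribMulAction.toAddMonoidEnd H U.toAddSubgroup).toHomUnits
    haveI : Group.IsSolvable (image H U.toAddSubgroup) :=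
      Group.isSolvable_of_surjective ρ.rangeRestrict_surjective
    have h8 : Nat.card U.toAddSubgroup ∣ 8 := by
      change Nat.card U ∣ 2 ^ 3
      rw [Module.natCard_eq_pow_finrank (K := ZMod 2), Nat.card_zmod]
      exact Nat.pow_dvd_pow 2 hd
    haveI : Finite (AddMonoid.End U.toAddSubgroup)ˣ :=
      Finite.of_injective _ (Units.val_injective (α := AddMonoid.End U.toAddSubgroup))
    obtain ⟨T, hT0, hTgen, hT⟩ := exists_rigid_small (L := image H U.toAddSubgroup)
      (fun g hg => Subtype.ext (Units.ext (AddMonoidHom.ext fun w => hg w)))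
      (fun h => h3 (h.trans ((Subgroup.card_range_dvd ρ).trans (Subgroup.card_subgroup_dvd_card H))))
      h8 (fun w => Subtype.ext ((two_nsmul (w : A)).symm.trans (hq _)))
    -- enlarge so that the span is the whole of `U`
    have hfix : ∀ g : Γ, (∀ x ∈ U, g • x ∈ U) → (∀ x ∈ T, ∀ h : g • (x : A) ∈ U,
        (⟨g • (x : A), h⟩ : U.toAddSubgroup) ∈ T) → ∀ w : A, g • w = w := by
      intro g hgU hgT
      have h1 := hT ⟨ρ ⟨g, mem_keeps hgU⟩, ⟨_, rfl⟩⟩ fun x hx => hgT x hx (hgU x x.2)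
      have hfix' : ∀ x : U.toAddSubgroup, g • (x : A) = x := fun x => by
        have h2 := congrArg (fun l : image H U.toAddSubgroup => ((l • x : U.toAddSubgroup) : A)) h1
        simp only [one_smul] at h2
        exact h2
      exact hreg g (hfix' ⟨a, haU⟩) (hfix' ⟨b, hbU⟩) (hfix' ⟨c, hcU⟩)
    refine ⟨(fun x : U.toAddSubgroup => (x : A)) '' T, ?_, fun g hg => ?_⟩
    · rintro ⟨x, hx, h0⟩
      exact hT0 ((Subtype.ext h0 : x = 0) ▸ hx)
    have hcl : Submodule.span (ZMod 2) ((fun x : U.toAddSubgroup => (x : A)) '' T) = U := by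
      refine le_antisymm (Submodule.span_le.2 ?_) fun x hx => ?_
      · rintro _ ⟨y, -, rfl⟩
        exact y.2
      · have hle : AddSubgroup.closure T ≤ AddSubgroup.comap U.toAddSubgroup.subtype
            (Submodule.span (ZMod 2) ((fun x : U.toAddSubgroup => (x : A)) '' T)).toAddSubgroup :=
          (AddSubgroup.closure_le _).2 fun y hy => Submodule.subset_span ⟨y, hy, rfl⟩
        rw [hTgen] at hle
        exact hle (AddSubgroup.mem_top (⟨x, hx⟩ : U.toAddSubgroup))
    refine hfix g (hspan g _ hcl hg) fun x hx h => ?_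
    obtain ⟨y, hy, hye⟩ := hg _ ⟨x, hx, rfl⟩
    exact (Subtype.ext hye : y = ⟨_, h⟩) ▸ hy
  have hq5 : 5 ≤ q := by
    have := hqp.two_le
    have : q ≠ 4 := fun h => by rw [h] at hqp; exact absurd hqp (by decide)
    omega
  let e := Module.finBasis (ZMod q) U
  set d := Module.finrank (ZMod q) U
  let S : Set A := {x | ∃ (i : Fin d) (l : ℕ), 1 ≤ l ∧ l ≤ (i : ℕ) + 1 ∧
    x = (l : ZMod q) • (e i : A)}
  have hl0 : ∀ l : ℕ, 1 ≤ l → l ≤ 3 → (l : ZMod q) ≠ 0 := fun l h1 h2 h => by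
    rw [ZMod.natCast_eq_zero_iff] at h
    have := Nat.le_of_dvd (by omega) h
    omega
  have huniq : ∀ (i j : Fin d) (x y : ZMod q), x ≠ 0 → x • (e i : A) = y • (e j : A) →
      i = j ∧ x = y := by
    intro i j x y hx h
    have h' : x • e i = y • e j := Subtype.ext h
    have h1 := congrArg e.repr h'
    rw [map_smul, map_smul, e.repr_self, e.repr_self, Finsupp.smul_single, Finsupp.smul_single,
      smul_eq_mul, smul_eq_mul, mul_one, mul_one, Finsupp.single_eq_single_iff] at h1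
    rcases h1 with h1 | ⟨h1, -⟩
    · exact h1
    · exact absurd h1 hx
  have hS : Submodule.span (ZMod q) S = U := by
    refine le_antisymm (Submodule.span_le.2 ?_) ?_
    · rintro _ ⟨i, l, -, -, rfl⟩
      exact U.smul_mem _ (e i).2
    · intro x hx
      rw [show x = ((∑ i, e.repr ⟨x, hx⟩ i • e i : U) : A) by rw [e.sum_repr]]
      rw [Submodule.coe_sum]
      refine Submodule.sum_mem _ fun i _ => ?_
      rw [Submodule.coe_smul]
      exact Submodule.smul_mem _ _ (Submodule.subset_span ⟨i, 1, le_rfl, by omega, by simp⟩)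
  refine ⟨S, ?_, fun g hg => ?_⟩
  · rintro ⟨i, l, hl, hl', h⟩
    have := (huniq i i (l : ZMod q) 0 (hl0 l hl (by omega)) (by rw [zero_smul, ← h])).2
    exact hl0 l hl (by omega) this
  have himg : ∀ i : Fin d, ∃ (j : Fin d) (k : ℕ), 1 ≤ k ∧ k ≤ (j : ℕ) + 1 ∧
      g • (e i : A) = (k : ZMod q) • (e j : A) :=
    fun i => hg _ ⟨i, 1, le_rfl, by omega, by simp⟩
  choose π k hk1 hk hπ using himg
  have hinj : Function.Injective π := by
    intro i i' h
    have hk' := hl0 (k i') (hk1 _) (by have := hk i'; omega)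
    have he : (k i' : ZMod q) • (g • (e i : A)) = (k i : ZMod q) • (g • (e i' : A)) := by
      rw [hπ, hπ, h, smul_smul, smul_smul, mul_comm]
    rw [← hlin, ← hlin] at he
    exact (huniq i i' _ _ hk' (smul_left_cancel g he)).1
  have hmain : ∀ i : Fin d, (i : ℕ) ≤ π i ∧ ((i : ℕ) = π i → k i = 1) := by
    intro i
    refine multiples hq5 (by omega) (by omega) (hk1 i) (hk i) fun l hl1 hl => ?_
    obtain ⟨j, m, hm1, hm, he⟩ := hg _ ⟨i, l, hl1, hl, rfl⟩
    rw [hlin, hπ, smul_smul] at he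
    have hne : ((l : ZMod q) * (k i : ZMod q)) ≠ 0 :=
      mul_ne_zero (hl0 l hl1 (by omega)) (hl0 _ (hk1 _) (by have := hk i; omega))
    obtain ⟨hj, hlm⟩ := huniq (π i) j _ _ hne he
    refine ⟨m, hm1, by omega, ?_⟩
    rw [← Nat.cast_mul, ZMod.natCast_eq_natCast_iff'] at hlm
    exact hlm
  have hid : ∀ i : Fin d, π i = i := by
    have hsum : ∑ i : Fin d, (i : ℕ) = ∑ i : Fin d, (π i : ℕ) :=
      (Equiv.sum_comp (Equiv.ofBijective π (Finite.injective_iff_bijective.1 hinj))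
        (fun i : Fin d => (i : ℕ))).symm
    intro i
    exact Fin.ext ((Finset.sum_eq_sum_iff_of_le fun i _ => (hmain i).1).1 hsum i
      (Finset.mem_univ i)).symm
  have hfixe : ∀ i : Fin d, g • (e i : A) = (e i : A) := fun i => by
    rw [hπ, (hmain i).2 (by rw [hid]), hid, Nat.cast_one, one_smul]
  have hfixU : ∀ x ∈ U, g • x = x := by
    intro x hx
    rw [show x = ((∑ i, e.repr ⟨x, hx⟩ i • e i : U) : A) by rw [e.sum_repr]]
    rw [Submodule.coe_sum, Finset.smul_sum]
    refine Finset.sum_congr rfl fun i _ => ?_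
    rw [Submodule.coe_smul, hlin, hfixe]
  exact hreg g (hfixU a haU) (hfixU b hbU) (hfixU c hcU)

/-- Three colours break the symmetries of the affine group. -/
theorem exists_affine_colouring [Finite Γ] [Group.IsSolvable Γ] [Finite A] (hirr : Irred Γ A)
    (h3 : ¬ 3 ∣ Nat.card Γ) (hA : ¬ 3 ∣ Nat.card A) :
    ∃ col : A → Fin 3, ∀ (t : A) (g : Γ), (∀ x : A, col (t + g • x) = col x) →
      t = 0 ∧ ∀ x : A, g • x = x := by
  classical
  obtain ⟨q, hqp, hq⟩ := exists_prime_exponent hirr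
  have hq3 : q ≠ 3 := by
    rintro rfl
    haveI := hirr.1
    obtain ⟨a, ha⟩ := exists_ne (0 : A)
    haveI := Fact.mk Nat.prime_three
    exact hA (addOrderOf_eq_prime (hq a) ha ▸ addOrderOf_dvd_natCard a)
  obtain ⟨S, hS0, hS⟩ := exists_rigid hirr h3 hqp hq hq3
  refine ⟨fun x => if x = 0 then 0 else if x ∈ S then 1 else 2, fun t g hg => ?_⟩
  have ht : t = 0 := by
    have h := hg 0
    simp only [smul_zero, add_zero, if_pos] at h
    by_contra ht
    rw [if_neg ht] at h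
    split_ifs at h <;> exact absurd h (by decide)
  refine ⟨ht, hS g fun x hx => ?_⟩
  have h := hg x
  have hx0 : x ≠ 0 := fun h0 => hS0 (h0 ▸ hx)
  simp only [ht, zero_add, if_neg hx0, if_pos hx] at h
  by_contra hgx
  split_ifs at h <;> exact absurd h (by decide)

end Cfsg.Agent.H42.Base2.Lin
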