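import Mathlib
import Cfsg.Agent.H10.BaseTwo.OddPrimitive

/-!
# A regular pair gives `p` regular pairs in different orbits, for a coprime action in characteristic `p`
-/

namespace Cfsg.Agent.H42.Base2.Lin

open Cfsg.Agent.H10.BaseThree Cfsg.Agent.H10.BaseTwo

variable {G W : Type*} [Group G] [AddCommGroup W] [DistribMulAction G W]

/-- `k` regular pairs lying in pairwise different orbits. -/
def ManyRegular (G W : Type*) [Group G] [AddCommGroup W] [DistribMulAction G W] (k : ℕ) : Prop :=
  ∃ s : Fin k → W × W, (∀ i, Regular2 G (s i)) ∧ ∀ i j, ∀ g : G, g • s i = s j → i = j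

theorem ManyRegular.mono {k l : ℕ} (h : ManyRegular G W k) (hl : l ≤ k) : ManyRegular G W l := by
  obtain ⟨s, hs, hinj⟩ := h
  exact ⟨fun i => s (Fin.castLE hl i), fun i => hs _,
    fun i j g hg => Fin.castLE_injective hl (hinj _ _ g hg)⟩

/-- Coprimality: nothing of order prime to `p` translates by a nonzero fixed vector. -/
theorem nsmul_eq_zero_of_translate [Finite G] {g : G} {a b : W} (ha : g • a = a)
    (hb : g • b = b + a) : Nat.card G • a = 0 := by
  have hpow : ∀ n : ℕ, g ^ n • b = b + n • a := by
    intro n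
    induction n with
    | zero => simp
    | succ n ih =>
      rw [pow_succ', mul_smul, ih, smul_add, hb, smul_nsmul', ha, succ_nsmul]
      abel
  have := hpow (Nat.card G)
  rw [pow_card_eq_one', one_smul] at this
  exact left_eq_add.mp this

/-- A regular pair gives `p` regular pairs in different orbits. -/
theorem manyRegular_of_regular [Finite G] [Nontrivial W] (p : ℕ) [Fact p.Prime]
    (hpW : ∀ w : W, p • w = 0) (hcop : ¬ p ∣ Nat.card G) (t : W × W) (ht : Regular2 G t) :
    ManyRegular G W p := by
  have hp : p.Prime := Fact.out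
  -- arrange that the first member is nonzero
  obtain ⟨a, b, ha, hab⟩ : ∃ a b : W, a ≠ 0 ∧ Regular2 G (a, b) := by
    by_cases h1 : t.1 = 0
    · by_cases h2 : t.2 = 0
      · obtain ⟨a, ha⟩ := exists_ne (0 : W)
        exact ⟨a, 0, ha, fun g _ _ => ht g (by rw [h1, smul_zero]) (by rw [h2, smul_zero])⟩
      · exact ⟨t.2, t.1, h2, fun g e1 e2 => ht g e2 e1⟩
    · exact ⟨t.1, t.2, h1, ht⟩
  refine ⟨fun i => (a, b + (i : ℕ) • a), fun i g e1 e2 => hab g e1 ?_, fun i j g h => ?_⟩
  · simp only [smul_add, smul_nsmul'] at e2 e1 ⊢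
    rw [e1] at e2
    exact add_right_cancel e2
  · simp only [Prod.smul_mk, Prod.mk.injEq, smul_add, smul_nsmul'] at h
    obtain ⟨h1, h2⟩ := h
    rw [h1] at h2
    by_contra hne
    obtain ⟨d, hd, hd'⟩ : ∃ d : ℕ, ¬ p ∣ d ∧ g • b = b + d • a := by
      refine ⟨((j : ℕ) + p - i) , fun hdvd => hne ?_, ?_⟩
      · apply Fin.ext
        have hi := i.2
        have hj := j.2
        obtain ⟨c, hc⟩ := hdvd
        rcases c with _ | _ | c
        · omega
        · omega
        · rw [Nat.mul_add, Nat.mul_add] at hc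
          omega
      · have hi := i.2
        refine add_right_cancel (b := (i : ℕ) • a) ?_
        rw [h2, add_assoc, ← add_nsmul, show (j : ℕ) + p - i + i = j + p by omega, add_nsmul,
          hpW a, add_zero]
    have hfix : g • (d • a) = d • a := by rw [smul_nsmul', h1]
    have h0 : (Nat.card G * d) • a = 0 := by
      rw [mul_nsmul']
      exact nsmul_eq_zero_of_translate hfix hd'
    have hord : addOrderOf a = p := addOrderOf_eq_prime (hpW a) ha
    have hdvd := addOrderOf_dvd_of_nsmul_eq_zero h0
    rw [hord] at hdvd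
    exact (hp.dvd_mul.1 hdvd).elim hcop hd

end Cfsg.Agent.H42.Base2.Lin
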