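import Mathlib
import Cfsg.Agent.H10.BaseTwo.OddMain
import Cfsg.Agent.H42.Base2.Lin.Orbits
import Cfsg.Agent.H42.Base2.Lin.Affine

/-!
# Reduction of regular pairs for coprime solvable linear groups to groups without blocks
-/

set_option linter.style.haveILetI false

namespace Cfsg.Agent.H42.Base2.Lin

open scoped commutatorElement
open Cfsg.Agent.H10.BaseThree Cfsg.Agent.H10.BaseTwo

universe u v

/-- Colours of the affine space give colours of the cosets of a maximal subgroup. -/
theorem exists_coset_colouring_of_affine {G : Type u} [Group G] [Finite G] [Group.IsSolvable G]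
    {M : Subgroup G} (hM : IsCoatom M) {k : ℕ}
    (IH : ∀ (A : Type u) [AddCommGroup A] [Finite A] [DistribMulAction M A],
      Irred M A → Nat.card A ∣ Nat.card G → ∃ col : A → Fin k, ∀ (t : A) (m : M),
        (∀ x : A, col (t + m • x) = col x) → t = 0 ∧ ∀ x : A, m • x = x) :
    ∃ c : G ⧸ M → Fin k, ∀ g : G, (∀ q, c (g • q) = c q) → ∀ q : G ⧸ M, g • q = q := by
  classical
  let K := M.normalCore
  have hKM : K ≤ M := M.normalCore_le
  haveI : Nontrivial (G ⧸ K) := QuotientGroup.nontrivial_iff.2 fun h =>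
    hM.1 (top_le_iff.1 (h ▸ hKM))
  obtain ⟨A0, hA0n, hA01, hA0c⟩ := exists_abelian_normal (G := G ⧸ K)
  obtain ⟨A, ⟨⟨hAn, hA1, hAc⟩, hAmin⟩⟩ := (Set.toFinite {A : Subgroup (G ⧸ K) |
    A.Normal ∧ A ≠ ⊥ ∧ ∀ a ∈ A, ∀ b ∈ A, a * b = b * a}).exists_minimal ⟨A0, hA0n, hA01, hA0c⟩
  let N : Subgroup G := A.comap (QuotientGroup.mk' K)
  haveI hNn : N.Normal := hAn.comap _
  have hKN : ∀ k ∈ K, k ∈ N := fun k hk => by
    change QuotientGroup.mk' K k ∈ A
    rw [show QuotientGroup.mk' K k = 1 from (QuotientGroup.eq_one_iff k).2 hk]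
    exact one_mem A
  have hNM : N ⊔ M = ⊤ := by
    refine hM.2 _ (lt_of_le_of_ne le_sup_right fun h => hA1 ?_)
    have hNleM : N ≤ M := h ▸ le_sup_left
    have hNK : N ≤ K := Subgroup.normal_le_normalCore.2 hNleM
    rw [eq_bot_iff]
    intro a ha
    obtain ⟨x, rfl⟩ := QuotientGroup.mk'_surjective K a
    exact Subgroup.mem_bot.2 ((QuotientGroup.eq_one_iff x).2 (hNK ha))
  have hcomm : ∀ a ∈ N, ∀ b ∈ N, ⁅a, b⁆ ∈ K := fun a ha b hb => by
    rw [← QuotientGroup.eq_one_iff]
    exact (map_commutatorElement (QuotientGroup.mk' K) a b).trans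
      (commutatorElement_eq_one_iff_mul_comm.2 (hAc _ ha _ hb))
  have hint : N ⊓ M ≤ K := by
    haveI : (N ⊓ M).Normal := by
      refine ⟨fun x hx g => ?_⟩
      obtain ⟨n, hn, m, hm, rfl⟩ :=
        Subgroup.mem_sup_of_normal_left.1 (hNM ▸ Subgroup.mem_top g : g ∈ N ⊔ M)
      have hy : m * x * m⁻¹ ∈ N ⊓ M :=
        ⟨hNn.conj_mem x hx.1 m, M.mul_mem (M.mul_mem hm hx.2) (M.inv_mem hm)⟩
      set y := m * x * m⁻¹ with hydef
      rw [show n * m * x * (n * m)⁻¹ = ⁅n, y⁆ * y by rw [hydef, commutatorElement_def]; group]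
      exact Subgroup.mul_mem _ ⟨hKN _ (hcomm n hn y hy.1), hKM (hcomm n hn y hy.1)⟩ hy
    exact Subgroup.normal_le_normalCore.2 inf_le_right
  have hrep : ∀ q : G ⧸ M, ∃ n ∈ N, (n : G ⧸ M) = q := by
    intro q
    obtain ⟨n, hn, m, hm, he⟩ :=
      Subgroup.mem_sup_of_normal_left.1 (hNM ▸ Subgroup.mem_top q.out : q.out ∈ N ⊔ M)
    refine ⟨n, hn, ?_⟩
    rw [← QuotientGroup.out_eq' q, ← he, QuotientGroup.eq]
    simpa using hm
  choose nq hnq hnqq using hrep
  letI : CommGroup ↥A := { (inferInstance : Group ↥A) with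
    mul_comm := fun a b => Subtype.ext (hAc a a.2 b b.2) }
  let conjA : G → (A →* A) := fun m =>
    { toFun := fun a => ⟨QuotientGroup.mk' K m * a.1 * (QuotientGroup.mk' K m)⁻¹,
        hAn.conj_mem _ a.2 _⟩
      map_one' := by apply Subtype.ext; simp
      map_mul' := fun a b => by apply Subtype.ext; simp [mul_assoc] }
  letI act : DistribMulAction M (Additive A) :=
    { smul := fun m a => Additive.ofMul (conjA (m : G) a.toMul)
      one_smul := fun a => by
        apply Additive.toMul.injective; apply Subtype.ext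
        change QuotientGroup.mk' K ((1 : M) : G) * (a.toMul : G ⧸ K) *
          (QuotientGroup.mk' K ((1 : M) : G))⁻¹ = (a.toMul : G ⧸ K)
        rw [Subgroup.coe_one, map_one, inv_one, one_mul, mul_one]
      mul_smul := fun m m' a => by
        apply Additive.toMul.injective; apply Subtype.ext
        change QuotientGroup.mk' K ((m * m' : M) : G) * (a.toMul : G ⧸ K) *
          (QuotientGroup.mk' K ((m * m' : M) : G))⁻¹ =
          QuotientGroup.mk' K (m : G) * (QuotientGroup.mk' K (m' : G) * (a.toMul : G ⧸ K) *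
            (QuotientGroup.mk' K (m' : G))⁻¹) * (QuotientGroup.mk' K (m : G))⁻¹
        rw [Subgroup.coe_mul, map_mul]; group
      smul_zero := fun m => congrArg Additive.ofMul (map_one (conjA (m : G)))
      smul_add := fun m a b => congrArg Additive.ofMul (map_mul (conjA (m : G)) a.toMul b.toMul) }
  have hirrA : Irred M (Additive A) := by
    haveI : Nontrivial A := (Subgroup.nontrivial_iff_ne_bot A).2 hA1
    refine ⟨inferInstance, fun U hU => ?_⟩
    let U' : Subgroup (G ⧸ K) :=
      { carrier := {x | ∃ h : x ∈ A, Additive.ofMul (⟨x, h⟩ : A) ∈ U}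
        mul_mem' := fun {x y} ⟨hx, hxU⟩ ⟨hy, hyU⟩ => ⟨A.mul_mem hx hy, U.add_mem hxU hyU⟩
        one_mem' := ⟨one_mem A, U.zero_mem⟩
        inv_mem' := fun {x} ⟨hx, hxU⟩ => ⟨A.inv_mem hx, U.neg_mem hxU⟩ }
    haveI hU'n : U'.Normal := by
      refine ⟨fun x hx y => ?_⟩
      obtain ⟨hxA, hxU⟩ := hx
      obtain ⟨g, rfl⟩ := QuotientGroup.mk'_surjective K y
      obtain ⟨n, hn, m, hm, rfl⟩ :=
        Subgroup.mem_sup_of_normal_left.1 (hNM ▸ Subgroup.mem_top g : g ∈ N ⊔ M)
      have h1 := hU ⟨m, hm⟩ _ hxU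
      have h2 : QuotientGroup.mk' K (n * m) * x * (QuotientGroup.mk' K (n * m))⁻¹ =
          QuotientGroup.mk' K m * x * (QuotientGroup.mk' K m)⁻¹ := by
        have hz : QuotientGroup.mk' K m * x * (QuotientGroup.mk' K m)⁻¹ ∈ A := hAn.conj_mem x hxA _
        calc QuotientGroup.mk' K (n * m) * x * (QuotientGroup.mk' K (n * m))⁻¹
            = QuotientGroup.mk' K n * (QuotientGroup.mk' K m * x * (QuotientGroup.mk' K m)⁻¹) *
              (QuotientGroup.mk' K n)⁻¹ := by rw [map_mul]; group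
          _ = _ := by rw [hAc _ hn _ hz, mul_inv_cancel_right]
      rw [h2]
      exact ⟨hAn.conj_mem x hxA _, h1⟩
    rcases eq_or_ne U' ⊥ with h | h
    · refine Or.inl ((AddSubgroup.eq_bot_iff_forall U).2 fun a ha => ?_)
      have h' : (a.toMul : G ⧸ K) ∈ U' := ⟨a.toMul.2, ha⟩
      rw [h, Subgroup.mem_bot] at h'
      exact congrArg Additive.ofMul (Subtype.ext h' : a.toMul = 1)
    · have hle : A ≤ U' := hAmin ⟨hU'n, h, fun a ha b hb => hAc a ha.1 b hb.1⟩ fun x hx => hx.1
      refine Or.inr ((AddSubgroup.eq_top_iff' U).2 fun a => ?_)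
      obtain ⟨_, hu⟩ := hle a.toMul.2
      exact hu
  obtain ⟨col, hcol⟩ := IH (Additive A) hirrA
    ((Subgroup.card_subgroup_dvd_card A).trans (Subgroup.card_quotient_dvd_card K))
  let ψ : G ⧸ M → A := fun q => ⟨QuotientGroup.mk' K (nq q), hnq q⟩
  have hψinj : Function.Injective ψ := fun q q' h => by
    have h' : QuotientGroup.mk' K (nq q) = QuotientGroup.mk' K (nq q') := congrArg Subtype.val h
    rw [← hnqq q, ← hnqq q', QuotientGroup.eq]
    exact hKM (QuotientGroup.eq.1 h')
  refine ⟨fun q => col (Additive.ofMul (ψ q)), fun g hg => ?_⟩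
  obtain ⟨n, hn, m, hm, rfl⟩ :=
    Subgroup.mem_sup_of_normal_left.1 (hNM ▸ Subgroup.mem_top g : g ∈ N ⊔ M)
  let t : A := ⟨QuotientGroup.mk' K n, hn⟩
  have hψ : ∀ q, ψ ((n * m) • q) = t * conjA m (ψ q) := by
    intro q
    apply Subtype.ext
    change QuotientGroup.mk' K (nq ((n * m) • q)) = QuotientGroup.mk' K n *
      (QuotientGroup.mk' K m * QuotientGroup.mk' K (nq q) * (QuotientGroup.mk' K m)⁻¹)
    rw [← map_inv, ← map_mul, ← map_mul, ← map_mul]
    have hx : n * (m * nq q * m⁻¹) ∈ N := N.mul_mem hn (hNn.conj_mem _ (hnq q) m)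
    refine QuotientGroup.eq.2 (hint ⟨N.mul_mem (N.inv_mem (hnq _)) hx, QuotientGroup.eq.1 ?_⟩)
    conv_lhs => rw [hnqq, ← hnqq q, MulAction.Quotient.smul_coe, smul_eq_mul]
    rw [QuotientGroup.eq]
    have he : (n * m * nq q)⁻¹ * (n * (m * nq q * m⁻¹)) = m⁻¹ := by group
    rw [he]
    exact M.inv_mem hm
  have hsurj : ∀ x : A, ∃ q, ψ q = x := by
    intro x
    obtain ⟨y, hy⟩ := QuotientGroup.mk'_surjective K (x : G ⧸ K)
    have hyN : y ∈ N := by change QuotientGroup.mk' K y ∈ A; rw [hy]; exact x.2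
    refine ⟨(y : G ⧸ M), Subtype.ext ?_⟩
    change QuotientGroup.mk' K (nq (y : G ⧸ M)) = (x : G ⧸ K)
    rw [← hy]
    exact QuotientGroup.eq.2 (hint ⟨N.mul_mem (N.inv_mem (hnq _)) hyN, QuotientGroup.eq.1 (hnqq _)⟩)
  obtain ⟨ht, hφ⟩ := hcol (Additive.ofMul t) ⟨m, hm⟩ fun x => by
    obtain ⟨q, hq⟩ := hsurj x.toMul
    have h := hg q
    simp only [hψ q, hq] at h
    exact h
  intro q
  apply hψinj
  rw [hψ, show t = 1 from congrArg Additive.toMul ht, one_mul]
  exact congrArg Additive.toMul (hφ (Additive.ofMul (ψ q)))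

section Combine

variable {G V : Type*} [Group G] [AddCommGroup V] [DistribMulAction G V] [Finite G]
  {e : AddMonoid.End V}

theorem regular2_of_blocks (hirr : Irred G V) (he : IsBlock G e)
    {k : ℕ} (c : G ⧸ blockStab G e → Fin k)
    (hc : ∀ g : G, (∀ q, c (g • q) = c q) → ∀ q : G ⧸ blockStab G e, g • q = q)
    (h2 : ManyRegular (blockStab G e) (blockSpace e) k) : ∃ t : V × V, Regular2 G t := by
  classical
  have := Fintype.ofFinite (G ⧸ blockStab G e)
  obtain ⟨s, hs, hinj⟩ := h2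
  let put : (blockSpace e × blockSpace e → blockSpace e) → V := fun π =>
    ∑ q : G ⧸ blockStab G e, q.out • ((π (s (c q)) : blockSpace e) : V)
  have hput : ∀ π q, e (q.out⁻¹ • put π) = ((π (s (c q)) : blockSpace e) : V) := by
    intro π q
    change e (q.out⁻¹ • ∑ q' : G ⧸ blockStab G e, _) = _
    rw [Finset.smul_sum, map_sum, Finset.sum_eq_single q]
    · rw [inv_smul_smul]; exact (π (s (c q))).2
    · intro q' _ hne
      have h1 := DFunLike.congr_fun (trans_orth he hne.symm)
        (q'.out • ((π (s (c q')) : blockSpace e) : V))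
      rw [AddMonoid.End.coe_mul, Function.comp_apply, Cfsg.Agent.H10.BaseThree.trans, Cfsg.Agent.H10.BaseThree.trans, cnj_apply, cnj_apply,
        inv_smul_smul, (π (s (c q'))).2] at h1
      exact (smul_eq_zero_iff_eq _).1 h1
    · simp
  refine ⟨(put Prod.fst, put Prod.snd), fun g h1 h2 => ?_⟩
  have hm : ∀ q : G ⧸ blockStab G e, (g • q).out⁻¹ * (g * q.out) ∈ blockStab G e := fun q =>
    QuotientGroup.eq.1 (by
      rw [QuotientGroup.out_eq', ← smul_eq_mul, ← MulAction.Quotient.smul_coe,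
        QuotientGroup.out_eq'])
  have key : ∀ π, g • put π = put π → ∀ q, (⟨_, hm q⟩ : blockStab G e) • π (s (c q)) =
      π (s (c (g • q))) := by
    intro π hfix q
    apply Subtype.ext
    rw [coe_blockAction, ← hput π q, ← hput π (g • q), ← smul_apply_of_mem (hm q)]
    congr 1
    rw [smul_smul, show (g • q).out⁻¹ * (g * q.out) * q.out⁻¹ = (g • q).out⁻¹ * g by group,
      mul_smul, hfix]
  have key2 : ∀ q, (⟨_, hm q⟩ : blockStab G e) • s (c q) = s (c (g • q)) := fun q =>
    Prod.ext (key Prod.fst h1 q) (key Prod.snd h2 q)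
  have hq : ∀ q : G ⧸ blockStab G e, g • q = q :=
    hc g fun q => (hinj _ _ _ (key2 q)).symm
  have hW : ∀ (q : G ⧸ blockStab G e) (w : V), e w = w → g • (q.out • w) = q.out • w := by
    intro q w hw
    have h4 := key2 q
    rw [← hinj _ _ _ (key2 q)] at h4
    have h5 := congrArg Subtype.val (hs (c q) _ (congrArg Prod.fst h4)
      (congrArg Prod.snd h4) ⟨w, hw⟩)
    rw [coe_blockAction] at h5
    change ((g • q).out⁻¹ * (g * q.out)) • w = w at h5
    rw [hq q, mul_smul, inv_smul_eq_iff, mul_smul] at h5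
    exact h5
  intro w
  conv_rhs => rw [← sum_trans hirr he w]
  rw [← sum_trans hirr he w, Finset.smul_sum, sum_trans hirr he w]
  refine Finset.sum_congr rfl fun q _ => ?_
  rw [Cfsg.Agent.H10.BaseThree.trans, cnj_apply]
  exact hW q _ (DFunLike.congr_fun he.idem _)

end Combine

/-- The cosets of a maximal subgroup in a group of order prime to three need three colours. -/
theorem exists_coset_colouring3 {G : Type u} [Group G] [Finite G] [Group.IsSolvable G]
    (h3 : ¬ 3 ∣ Nat.card G) {M : Subgroup G} (hM : IsCoatom M) :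
    ∃ c : G ⧸ M → Fin 3, ∀ g : G, (∀ q, c (g • q) = c q) → ∀ q : G ⧸ M, g • q = q :=
  exists_coset_colouring_of_affine hM fun _ _ _ _ hirr hdvd =>
    exists_affine_colouring hirr (fun h => h3 (h.trans (Subgroup.card_subgroup_dvd_card M)))
      fun h => h3 (h.trans hdvd)

/-- The statement for the groups without blocks. -/
def NoBlockPairs (p : ℕ) : Prop :=
  ∀ (V : Type v) [AddCommGroup V] [Finite V] (H : Subgroup (AddMonoid.End V)ˣ) [Group.IsSolvable H],
    (∀ w : V, p • w = 0) → ¬ p ∣ Nat.card H → Irred H V → (∀ e : AddMonoid.End V, ¬ IsBlock H e) →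
      ∃ t : V × V, Regular2 H t

/-- Irreducible coprime solvable groups in odd characteristic have a regular pair, provided those
without blocks have one. -/
theorem regular2_units_coprime {p : ℕ} (hp : p.Prime) (hp2 : p ≠ 2) (hnb : NoBlockPairs.{v} p) :
    ∀ (n : ℕ) (V : Type v) [AddCommGroup V] [Finite V], Nat.card V = n →
      ∀ (H : Subgroup (AddMonoid.End V)ˣ) [Group.IsSolvable H],
        (∀ w : V, p • w = 0) → ¬ p ∣ Nat.card H → Irred H V → ∃ t : V × V, Regular2 H t := by
  intro n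
  induction n using Nat.strong_induction_on with
  | _ n ih =>
    intro V _ _ hn H _ hpV hpH hirr
    haveI : Finite (AddMonoid.End V)ˣ :=
      Finite.of_injective _ (Units.val_injective (α := AddMonoid.End V))
    by_cases hb : ∃ e : AddMonoid.End V, IsBlock H e
    swap
    · push Not at hb
      exact hnb V H hpV hpH hirr hb
    obtain ⟨e, he, hmax⟩ := exists_maximal_block hirr hb
    have hirrW : Irred (blockStab H e) (blockSpace e) := irred_blockSpace hirr he
    have hlt : Nat.card (blockSpace e) < n := by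
      obtain ⟨w, hw⟩ : ∃ v : V, e v ≠ v := by
        by_contra hc
        push Not at hc
        exact he.ne_one (AddMonoidHom.ext hc)
      rw [← hn]
      exact Finite.card_subtype_lt (p := fun v : V => e v = v) hw
    let ρ := (DistribMulAction.toAddMonoidEnd (blockStab H e) (blockSpace e)).toHomUnits
    haveI : Group.IsSolvable (image (blockStab H e) (blockSpace e)) :=
      Group.isSolvable_of_surjective ρ.rangeRestrict_surjective
    have hpM : ¬ p ∣ Nat.card (blockStab H e) := fun h =>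
      hpH (h.trans (Subgroup.card_subgroup_dvd_card _))
    have hpW : ∀ w : blockSpace e, p • w = 0 := fun w => Subtype.ext (hpV w)
    obtain ⟨t, ht⟩ := ih _ hlt (blockSpace e) rfl (image (blockStab H e) (blockSpace e)) hpW
      (fun h => hpM (h.trans (Subgroup.card_range_dvd ρ)))
      ⟨hirrW.1, fun U hU => hirrW.2 U fun g w hw => hU ⟨ρ g, ⟨g, rfl⟩⟩ w hw⟩
    have ht' : Regular2 (blockStab H e) t := fun g h1 h2 w => ht ⟨ρ g, ⟨g, rfl⟩⟩ h1 h2 w
    haveI := hirrW.1
    haveI := Fact.mk hp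
    have hmany : ManyRegular (blockStab H e) (blockSpace e) p :=
      manyRegular_of_regular p hpW hpM t ht'
    by_cases hp3 : p = 3
    · subst hp3
      obtain ⟨c, hc⟩ := exists_coset_colouring3 hpH hmax
      exact regular2_of_blocks hirr he c hc hmany
    · have hp5 : 5 ≤ p := by
        have := hp.two_le
        have h4 : p ≠ 4 := fun h => by rw [h] at hp; exact absurd hp (by decide)
        omega
      obtain ⟨c, hc⟩ := Cfsg.Agent.H10.BaseThree.exists_coset_colouring hmax
      exact regular2_of_blocks hirr he c hc (hmany.mono hp5)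

/-- A coprime solvable group acting irreducibly in odd characteristic has a regular pair. -/
theorem exists_regular2_coprime {p : ℕ} (hp : p.Prime) (hp2 : p ≠ 2) (hnb : NoBlockPairs.{v} p)
    {G : Type u} [Group G] [Group.IsSolvable G] {V : Type v} [AddCommGroup V] [Finite V]
    [DistribMulAction G V] (hpV : ∀ w : V, p • w = 0) (hpG : ¬ p ∣ Nat.card G)
    (hirr : Irred G V) : ∃ t : V × V, Regular2 G t := by
  let ρ := (DistribMulAction.toAddMonoidEnd G V).toHomUnits
  haveI : Group.IsSolvable (image G V) := Group.isSolvable_of_surjective ρ.rangeRestrict_surjective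
  have hirr' : Irred (image G V) V :=
    ⟨hirr.1, fun U hU => hirr.2 U fun g w hw => hU ⟨ρ g, ⟨g, rfl⟩⟩ w hw⟩
  obtain ⟨t, ht⟩ := regular2_units_coprime hp hp2 hnb _ V rfl (image G V) hpV
    (fun h => hpG (h.trans (Subgroup.card_range_dvd ρ))) hirr'
  exact ⟨t, fun g h1 h2 w => ht ⟨ρ g, ⟨g, rfl⟩⟩ h1 h2 w⟩

end Cfsg.Agent.H42.Base2.Lin
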