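import Mathlib
import Cfsg.Agent.H42.Base2.Lin.Block
import Cfsg.Agent.H42.Base2.Reduce
import Cfsg.Agent.Robinson.Module

/-!
# Base two for coprime solvable linear groups, from the groups without blocks
-/

set_option linter.style.haveILetI false

namespace Cfsg.Agent.H42.Base2.Lin

open Cfsg.Agent.H10.BaseThree Cfsg.Agent.H10.BaseTwo

universe u v w

/-- Two vectors with the smallest common stabiliser, for an action in odd characteristic `p`. -/
theorem exists_pair_elementary {p : ℕ} (hp : p.Prime) (hp2 : p ≠ 2) (hnb : NoBlockPairs.{v} p)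
    {A : Type u} [Group A] [Finite A] [Group.IsSolvable A] {V : Type v} [AddCommGroup V] [Finite V]
    [DistribMulAction A V] (hpV : ∀ v : V, p • v = 0) (hpA : ¬ p ∣ Nat.card A) :
    ∃ x y : V, ∀ a : A, a • x = x → a • y = y → ∀ u : V, a • u = u := by
  classical
  haveI := AddCommGroup.zmodModule (n := p) hpV
  haveI := Fact.mk hp
  let ρ : Representation (ZMod p) A V :=
    { toFun := fun a => (DistribSMul.toAddMonoidHom V a).toZModLinearMap p
      map_one' := LinearMap.ext fun v => one_smul A v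
      map_mul' := fun a b => LinearMap.ext fun v => mul_smul a b v }
  obtain ⟨t, -, ht⟩ := H10.BaseTwo.exists_pair_of_completelyReducible
    (fun S _ _ _ hirr ι hι _ => exists_regular2_coprime hp hp2 hnb
      (fun w => hι (by rw [map_nsmul, hpV, map_zero])) hpA hirr)
    (fun U hU => by
      obtain ⟨W, hW, hc⟩ := Robinson.exists_inv_compl (ρ := ρ) hpA
        (AddSubgroup.toZModSubmodule p U) (fun a x hx => hU a x hx)
      refine ⟨W.toAddSubgroup, fun a w hw => hW a w hw, ?_, ?_⟩
      · rw [eq_bot_iff]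
        intro x hx
        exact (Submodule.mem_bot (ZMod p)).1 (hc.inf_eq_bot ▸ (⟨hx.1, hx.2⟩ :
          x ∈ AddSubgroup.toZModSubmodule p U ⊓ W))
      · rw [eq_top_iff]
        intro x _
        obtain ⟨u, hu, w, hw, rfl⟩ := Submodule.mem_sup.1
          (hc.sup_eq_top.symm ▸ Submodule.mem_top : x ∈ AddSubgroup.toZModSubmodule p U ⊔ W)
        exact AddSubgroup.add_mem_sup hu hw)
    (⊤ : AddSubgroup V) (fun a x _ => AddSubgroup.mem_top _)
  exact ⟨t.1, t.2, fun a h1 h2 u => ht a h1 h2 u (AddSubgroup.mem_top u)⟩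

/-- The form of S4621. -/
theorem exists_pair_representation (hnb : ∀ p : ℕ, p.Prime → p ≠ 2 → NoBlockPairs.{v} p)
    {F : Type w} [Field F] [Fintype F] (hF : ringChar F ≠ 2) {V : Type v} [AddCommGroup V]
    [Module F V] [Finite V] {G : Type u} [Group G] [Finite G] [Group.IsSolvable G]
    (ρ : Representation F G V) (hfaith : Function.Injective ρ)
    (hcop : (Nat.card G).Coprime (Nat.card V)) :
    ∃ x y : V, ∀ g : G, ρ g x = x → ρ g y = y → g = 1 := by
  classical
  obtain ⟨n, hp, -⟩ := FiniteField.card F (ringChar F)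
  have hpV : ∀ v : V, ringChar F • v = 0 := fun v => by
    rw [← Nat.cast_smul_eq_nsmul F, ringChar.Nat.cast_ringChar, zero_smul]
  letI : DistribMulAction G V :=
    { smul := fun g v => ρ g v
      one_smul := fun v => LinearMap.congr_fun (map_one ρ) v
      mul_smul := fun g h v => LinearMap.congr_fun (map_mul ρ g h) v
      smul_zero := fun g => map_zero (ρ g)
      smul_add := fun g a b => map_add (ρ g) a b }
  by_cases hsub : Subsingleton V
  · exact ⟨0, 0, fun g _ _ => hfaith (LinearMap.ext fun v => Subsingleton.elim _ _)⟩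
  rw [not_subsingleton_iff_nontrivial] at hsub
  haveI := Fact.mk hp
  have hpA : ¬ ringChar F ∣ Nat.card G := fun hd => by
    obtain ⟨v, hv⟩ := exists_ne (0 : V)
    exact hp.not_dvd_one (hcop ▸ Nat.dvd_gcd hd
      (addOrderOf_eq_prime (hpV v) hv ▸ addOrderOf_dvd_natCard v))
  obtain ⟨x, y, hxy⟩ := exists_pair_elementary hp hF (hnb _ hp hF) hpV hpA
  exact ⟨x, y, fun g h1 h2 => hfaith (LinearMap.ext fun v => (hxy g h1 h2 v).trans
    (LinearMap.congr_fun (map_one ρ) v).symm)⟩

/-- The linear hypothesis of S4372 and S4373. -/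
theorem linearBaseTwo (hnb : ∀ p : ℕ, p.Prime → p ≠ 2 → NoBlockPairs.{v} p) :
    LinearBaseTwo.{v} := fun p _ hp V _ _ _ G _ _ _ ρ h c =>
  exists_pair_representation hnb (F := ZMod p) (by rwa [ZMod.ringChar_zmod_n]) ρ h c

end Cfsg.Agent.H42.Base2.Lin
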